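import Mathlib.GroupTheory.GroupAction.Quotient
import Mathlib.GroupTheory.Index
import Mathlib.GroupTheory.Perm.Cycle.Type
import Mathlib.GroupTheory.Subgroup.Center
import Mathlib.Algebra.Group.Action.Basic

/-!
# Automorphisms acting half transitively on the nontrivial elements

If the orbits on the nontrivial elements of `N` all have the same size and the action is not free
there, then no proper nontrivial subgroup is invariant and `N` is elementary abelian.  The common
size is prime to `|N|`, so a set of size dividing `|N|` which is permuted blockwise meets each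
orbit at most once; this applies to cosets and to conjugacy classes.
-/

namespace Cfsg.Agent.Lib.HalfTransAut.Basic

open MulAction

universe u v

theorem card_orbit {B : Type u} [Group B] {α : Type v} [MulAction B α] (y : α) :
    Nat.card (orbit B y) = (stabilizer B y).index :=
  Nat.card_congr (orbitEquivQuotientStabilizer B y)

/-- A finite invariant set all of whose orbits have size `d` has size divisible by `d`. -/
theorem dvd_card_of_orbits {B : Type u} [Group B] {α : Type v} [MulAction B α] (S : Finset α)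
    (hinv : ∀ b : B, ∀ y ∈ S, b • y ∈ S) {d : ℕ} (hd : ∀ y ∈ S, Nat.card (orbit B y) = d) :
    d ∣ S.card := by
  classical
  rw [Finset.card_eq_sum_card_image (fun y => (Quotient.mk'' y : orbitRel.Quotient B α))]
  refine Finset.dvd_sum fun q hq => ?_
  obtain ⟨y, hy, rfl⟩ := Finset.mem_image.mp hq
  rw [← hd y hy]
  refine dvd_of_eq ?_
  rw [← Set.ncard_coe_finset, ← Nat.card_coe_set_eq]
  congr 2
  ext z
  simp only [Finset.coe_filter, Set.mem_setOf_eq, Quotient.eq'', orbitRel_apply]
  exact ⟨fun h => ⟨by obtain ⟨b, rfl⟩ := h; exact hinv b y hy, h⟩, fun h => h.2⟩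

variable {A : Type u} [Group A] [Finite A] {N : Type v} [Group N] [Finite N]
  [MulDistribMulAction A N]
  (hhalf : ∀ x y : N, x ≠ 1 → y ≠ 1 → Nat.card (orbit A x) = Nat.card (orbit A y))

include hhalf

theorem card_stabilizer_eq {x y : N} (hx : x ≠ 1) (hy : y ≠ 1) :
    Nat.card (stabilizer A x) = Nat.card (stabilizer A y) := by
  have h := hhalf x y hx hy
  rw [card_orbit, card_orbit] at h
  refine Nat.eq_of_mul_eq_mul_left
    (Nat.pos_of_ne_zero (Subgroup.index_ne_zero_of_finite (H := stabilizer A x))) ?_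
  rw [Subgroup.index_mul_card, h, Subgroup.index_mul_card]

theorem stabilizer_eq_of_le {x y : N} (hx : x ≠ 1) (hy : y ≠ 1)
    (h : stabilizer A x ≤ stabilizer A y) : stabilizer A x = stabilizer A y :=
  Subgroup.eq_of_le_of_card_ge h (card_stabilizer_eq hhalf hx hy).ge

theorem coprime_orbit {x : N} (hx : x ≠ 1) : (Nat.card (orbit A x)).Coprime (Nat.card N) := by
  classical
  have := Fintype.ofFinite N
  have h := dvd_card_of_orbits (B := A) ((Finset.univ : Finset N).erase 1)
    (d := Nat.card (orbit A x))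
    (fun b y hy => Finset.mem_erase.mpr ⟨fun h => (Finset.mem_erase.mp hy).1 (by
      rw [← smul_inv_smul b⁻¹ y, inv_inv, h, smul_one]), Finset.mem_univ _⟩)
    (fun y hy => hhalf y x (Finset.mem_erase.mp hy).1 hx)
  rw [Finset.card_erase_of_mem (Finset.mem_univ _), Finset.card_univ,
    ← Nat.card_eq_fintype_card] at h
  refine Nat.coprime_of_dvd' fun k _ hk hk' => ?_
  have h1 := Nat.dvd_sub hk' (hk.trans h)
  rwa [Nat.sub_sub_self Nat.card_pos] at h1

/-- The blockwise trick. -/
theorem stabilizer_eq_of_block (S : Finset N) {x : N} (hx : x ∈ S) (h1 : ∀ y ∈ S, y ≠ 1)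
    (hcard : S.card ∣ Nat.card N)
    (hblock : ∀ a : A, ∀ y ∈ S, a • y ∈ S → ∀ z ∈ S, a • z ∈ S) :
    ∀ y ∈ S, stabilizer A y = stabilizer A x := by
  classical
  let B : Subgroup A :=
    { carrier := {a | ∀ z ∈ S, a • z ∈ S}
      one_mem' := fun z hz => by rwa [one_smul]
      mul_mem' := fun {a b} ha hb z hz => by rw [mul_smul]; exact ha _ (hb z hz)
      inv_mem' := fun {a} ha z hz => by
        let F : S → S := fun w => ⟨a • (w : N), ha _ w.2⟩
        have hF : Function.Injective F := fun u w h =>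
          Subtype.ext (smul_left_cancel a (congrArg Subtype.val h))
        obtain ⟨w, hw⟩ := Finite.injective_iff_surjective.mp hF ⟨z, hz⟩
        have hw' : a • (w : N) = z := congrArg Subtype.val hw
        rw [← hw', inv_smul_smul]
        exact w.2 }
  have hle : ∀ y ∈ S, stabilizer A y ≤ B := fun y hy a ha z hz =>
    hblock a y hy (by rw [mem_stabilizer_iff.mp ha]; exact hy) z hz
  have horb : ∀ y : N, Nat.card (orbit B y) = (stabilizer A y).relIndex B := fun y => by
    rw [card_orbit, Subgroup.relIndex]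
    congr 1
  set d := Nat.card (orbit B x) with hd
  have hmul : ∀ y ∈ S, (stabilizer A y).relIndex B * B.index = Nat.card (orbit A y) := fun y hy => by
    rw [card_orbit, Subgroup.relIndex_mul_index (hle y hy)]
  have hall : ∀ y ∈ S, Nat.card (orbit B y) = d := fun y hy => by
    refine Nat.eq_of_mul_eq_mul_right (Nat.pos_of_ne_zero (Subgroup.index_ne_zero_of_finite (H := B))) ?_
    rw [hd, horb, horb, hmul y hy, hmul x hx]
    exact hhalf y x (h1 y hy) (h1 x hx)
  have hd1 : d = 1 := by
    refine Nat.eq_one_of_dvd_coprimes (coprime_orbit hhalf (h1 x hx)) ?_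
      ((dvd_card_of_orbits (B := B) S (fun b y hy => b.2 y hy) hall).trans hcard)
    rw [← hmul x hx, hd, horb]
    exact dvd_mul_right _ _
  have heq : ∀ y ∈ S, stabilizer A y = B := fun y hy => by
    refine le_antisymm (hle y hy) ?_
    rw [← Subgroup.relIndex_eq_one, ← horb, hall y hy, hd1]
  exact fun y hy => by rw [heq y hy, heq x hx]

omit hhalf in
theorem card_conjugates_dvd (x : N) [DecidablePred (IsConj x)] [Fintype N] :
    (Finset.univ.filter (IsConj x)).card ∣ Nat.card N := by
  rw [← Fintype.card_subtype, ← Nat.card_eq_fintype_card]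
  have h : Nat.card {y : N // IsConj x y} = Nat.card (orbit (ConjAct N) x) := by
    refine Nat.card_congr (Equiv.subtypeEquivRight fun y => ?_)
    show IsConj x y ↔ y ∈ orbit (ConjAct N) x
    rw [ConjAct.mem_orbit_conjAct]
    exact ⟨fun h => h.symm, fun h => h.symm⟩
  rw [h, card_orbit]
  exact Subgroup.index_dvd_card _

/-- The stabiliser of an element fixes its conjugates. -/
theorem stabilizer_conj {x : N} (hx : x ≠ 1) (n : N) :
    stabilizer A (n * x * n⁻¹) = stabilizer A x := by
  classical
  have := Fintype.ofFinite N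
  refine stabilizer_eq_of_block hhalf (Finset.univ.filter (IsConj x)) (x := x)
    (Finset.mem_filter.mpr ⟨Finset.mem_univ _, IsConj.refl x⟩) (fun y hy h1 => hx ?_) (card_conjugates_dvd x) (fun a y hy hay z hz => ?_) _
    (Finset.mem_filter.mpr ⟨Finset.mem_univ _, isConj_iff.mpr ⟨n, rfl⟩⟩)
  · rw [Finset.mem_filter, h1] at hy
    exact isConj_one_left.mp hy.2
  · simp only [Finset.mem_filter, Finset.mem_univ, true_and] at hy hay hz ⊢
    exact hay.trans ((MulDistribMulAction.toMonoidHom N a).map_isConj (hy.symm.trans hz))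

variable (hfaith : ∀ a : A, (∀ x : N, a • x = x) → a = 1)
  (hfix : ∃ a : A, a ≠ 1 ∧ ∃ x : N, x ≠ 1 ∧ a • x = x)

include hfaith hfix

theorem not_all_eq {x : N} (hx : x ≠ 1) : ∃ y : N, y ≠ 1 ∧ stabilizer A y ≠ stabilizer A x := by
  by_contra hcon
  push Not at hcon
  obtain ⟨a, ha, y, hy, hay⟩ := hfix
  refine ha (hfaith a fun z => ?_)
  by_cases hz : z = 1
  · rw [hz, smul_one]
  · have h : a ∈ stabilizer A y := hay
    rw [hcon y hy, ← hcon z hz] at h
    exact h

/-- No proper nontrivial subgroup is invariant. -/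
theorem eq_bot_or_top (M : Subgroup N) (hM : ∀ a : A, ∀ m ∈ M, a • m ∈ M) : M = ⊥ ∨ M = ⊤ := by
  classical
  have := Fintype.ofFinite N
  by_contra hcon
  push Not at hcon
  obtain ⟨hbot, htop⟩ := hcon
  obtain ⟨m, hm, hm1⟩ := (Subgroup.bot_or_exists_ne_one M).resolve_left hbot
  have hne : ∀ x : N, x ∉ M → x ≠ 1 := fun x hx h => hx (h ▸ one_mem M)
  have hout : ∀ x : N, x ∉ M → ∀ n ∈ M, stabilizer A x ≤ stabilizer A n := by
    intro x hx n hn a ha
    have h := stabilizer_eq_of_block hhalf (Finset.univ.filter fun y => x⁻¹ * y ∈ M) (x := x)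
      (by simp) (fun y hy h1 => hx ?_) ?_ (fun b y hy hby z hz => ?_) (x * n) (by simp [hn])
    · have h2 : a ∈ stabilizer A (x * n) := h.symm ▸ ha
      rw [mem_stabilizer_iff, smul_mul', mem_stabilizer_iff.mp ha] at h2
      exact mul_left_cancel h2
    · rw [Finset.mem_filter, h1, mul_one] at hy
      exact inv_mem_iff.mp hy.2
    · rw [← Fintype.card_subtype, ← Nat.card_eq_fintype_card]
      have : Nat.card {y : N // x⁻¹ * y ∈ M} = Nat.card M :=
        Nat.card_congr ((Equiv.mulLeft x⁻¹).subtypeEquiv fun y => Iff.rfl)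
      rw [this]
      exact Subgroup.card_subgroup_dvd_card M
    · simp only [Finset.mem_filter, Finset.mem_univ, true_and] at hy hby hz ⊢
      have h1 : x⁻¹ * (b • z) = x⁻¹ * (b • y) * (b • (y⁻¹ * z)) := by
        rw [smul_mul', smul_inv']; group
      rw [h1]
      refine mul_mem hby (hM b _ ?_)
      have h2 : y⁻¹ * z = (x⁻¹ * y)⁻¹ * (x⁻¹ * z) := by group
      rw [h2]
      exact mul_mem (inv_mem hy) hz
  obtain ⟨x₀, hx₀⟩ : ∃ x₀ : N, x₀ ∉ M := by
    by_contra hh
    push Not at hh
    exact htop (eq_top_iff.mpr fun y _ => hh y)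
  obtain ⟨y, hy, hyne⟩ := not_all_eq hhalf hfaith hfix hm1
  apply hyne
  by_cases hyM : y ∈ M
  · rw [← stabilizer_eq_of_le hhalf (hne _ hx₀) hm1 (hout x₀ hx₀ m hm),
      ← stabilizer_eq_of_le hhalf (hne _ hx₀) hy (hout x₀ hx₀ y hyM)]
  · exact stabilizer_eq_of_le hhalf hy hm1 (hout y hyM m hm)

/-- `N` is elementary abelian. -/
theorem elementary : ∃ p : ℕ, p.Prime ∧ IsMulCommutative N ∧ ∀ x : N, x ^ p = 1 := by
  classical
  obtain ⟨a₀, ha₀, x₀, hx₀, ha0x⟩ := id hfix
  have hfix' := hfix
  haveI : Nontrivial N := ⟨x₀, 1, hx₀⟩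
  -- elements with different stabilisers commute
  have hdiff : ∀ x y : N, x ≠ 1 → y ≠ 1 → stabilizer A x ≠ stabilizer A y → x * y = y * x := by
    intro x y hx hy hne
    by_contra hc
    set w := x * y * x⁻¹ * y⁻¹ with hw
    have hw1 : w ≠ 1 := fun h => hc (by
      have := mul_inv_eq_one.mp h
      exact mul_inv_eq_iff_eq_mul.mp this)
    have h1 : stabilizer A x ≤ stabilizer A w := fun a ha => by
      have h2 : a ∈ stabilizer A (y * x⁻¹ * y⁻¹) := by
        rw [stabilizer_conj hhalf (inv_ne_one.mpr hx), mem_stabilizer_iff, smul_inv',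
          mem_stabilizer_iff.mp ha]
      rw [mem_stabilizer_iff, hw, show x * y * x⁻¹ * y⁻¹ = x * (y * x⁻¹ * y⁻¹) by group, smul_mul',
        mem_stabilizer_iff.mp ha, mem_stabilizer_iff.mp h2]
    have h2 : stabilizer A y ≤ stabilizer A w := fun a ha => by
      have h2 : a ∈ stabilizer A (x * y * x⁻¹) := by rwa [stabilizer_conj hhalf hy]
      rw [mem_stabilizer_iff, hw, smul_mul', smul_inv', mem_stabilizer_iff.mp ha,
        mem_stabilizer_iff.mp h2]
    exact hne ((stabilizer_eq_of_le hhalf hx hw1 h1).trans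
      (stabilizer_eq_of_le hhalf hy hw1 h2).symm)
  have hcomm : ∀ x y : N, x * y = y * x := by
    intro x y
    by_cases hx : x = 1
    · simp [hx]
    by_cases hy : y = 1
    · simp [hy]
    by_cases hxy : stabilizer A x = stabilizer A y
    swap
    · exact hdiff x y hx hy hxy
    obtain ⟨z, hz, hzne⟩ := not_all_eq hhalf hfaith hfix' hx
    have hw : x * z ≠ 1 := fun h => hzne (by
      rw [eq_inv_of_mul_eq_one_right h]
      ext a; simp)
    have hwne : stabilizer A (x * z) ≠ stabilizer A x := by
      intro he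
      refine hzne (stabilizer_eq_of_le hhalf hx hz fun a ha => ?_).symm
      have h := ha
      rw [← he, mem_stabilizer_iff, smul_mul', mem_stabilizer_iff.mp ha] at h
      exact mul_left_cancel h
    have h1 := hdiff z y hz hy (fun h => hzne (h.trans hxy.symm))
    have h2 := hdiff (x * z) y hw hy (fun h => hwne (h.trans hxy.symm))
    have h3 : x * y * z = y * x * z := by
      rw [mul_assoc, ← h1, ← mul_assoc, h2, mul_assoc]
    exact mul_right_cancel h3
  letI : CommGroup N := { ‹Group N› with mul_comm := hcomm }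
  obtain ⟨p, hp, hpd⟩ := Nat.exists_prime_and_dvd (n := Nat.card N) Finite.one_lt_card.ne'
  refine ⟨p, hp, ⟨⟨hcomm⟩⟩, fun x => ?_⟩
  haveI : Fact p.Prime := ⟨hp⟩
  have h := eq_bot_or_top hhalf hfaith hfix' (powMonoidHom p : N →* N).ker fun a m hm => by
    rw [MonoidHom.mem_ker, powMonoidHom_apply] at hm ⊢
    rw [← smul_pow', hm, smul_one]
  have hne : (powMonoidHom p : N →* N).ker ≠ ⊥ := fun hb => by
    obtain ⟨z, hz⟩ := exists_prime_orderOf_dvd_card' p hpd
    have : z ∈ (powMonoidHom p : N →* N).ker := by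
      rw [MonoidHom.mem_ker, powMonoidHom_apply, ← hz, pow_orderOf_eq_one]
    rw [hb, Subgroup.mem_bot] at this
    rw [this, orderOf_one] at hz
    exact hp.ne_one hz.symm
  have := h.resolve_left hne
  exact (this ▸ Subgroup.mem_top x : x ∈ (powMonoidHom p : N →* N).ker)

end Cfsg.Agent.Lib.HalfTransAut.Basic
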